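import Cfsg.Agent.Lib.Cert.Co2o.O0

set_option autoImplicit false
set_option maxRecDepth 100000

namespace Cfsg.Agent.Ct.Co2o

open Cfsg.Agent.PC

open Cfsg.Agent.Fi Cfsg.Agent.Ct
theorem h3 : ∀ i < 56924, f3 i = 0 := by
  have h := zero_lt_zero f3
  have h := zero_lt_add (a := (nat_lit 0)) (n := (nat_lit 2000)) (b := (nat_lit 2000)) h d0 rfl
  have h := zero_lt_add (a := (nat_lit 2000)) (n := (nat_lit 2000)) (b := (nat_lit 4000)) h d2000 rfl
  have h := zero_lt_add (a := (nat_lit 4000)) (n := (nat_lit 2000)) (b := (nat_lit 6000)) h d4000 rfl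
  have h := zero_lt_add (a := (nat_lit 6000)) (n := (nat_lit 2000)) (b := (nat_lit 8000)) h d6000 rfl
  have h := zero_lt_add (a := (nat_lit 8000)) (n := (nat_lit 2000)) (b := (nat_lit 10000)) h d8000 rfl
  have h := zero_lt_add (a := (nat_lit 10000)) (n := (nat_lit 2000)) (b := (nat_lit 12000)) h d10000 rfl
  have h := zero_lt_add (a := (nat_lit 12000)) (n := (nat_lit 2000)) (b := (nat_lit 14000)) h d12000 rfl
  have h := zero_lt_add (a := (nat_lit 14000)) (n := (nat_lit 2000)) (b := (nat_lit 16000)) h d14000 rfl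
  have h := zero_lt_add (a := (nat_lit 16000)) (n := (nat_lit 2000)) (b := (nat_lit 18000)) h d16000 rfl
  have h := zero_lt_add (a := (nat_lit 18000)) (n := (nat_lit 2000)) (b := (nat_lit 20000)) h d18000 rfl
  have h := zero_lt_add (a := (nat_lit 20000)) (n := (nat_lit 2000)) (b := (nat_lit 22000)) h d20000 rfl
  have h := zero_lt_add (a := (nat_lit 22000)) (n := (nat_lit 2000)) (b := (nat_lit 24000)) h d22000 rfl
  have h := zero_lt_add (a := (nat_lit 24000)) (n := (nat_lit 2000)) (b := (nat_lit 26000)) h d24000 rfl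
  have h := zero_lt_add (a := (nat_lit 26000)) (n := (nat_lit 2000)) (b := (nat_lit 28000)) h d26000 rfl
  have h := zero_lt_add (a := (nat_lit 28000)) (n := (nat_lit 2000)) (b := (nat_lit 30000)) h d28000 rfl
  have h := zero_lt_add (a := (nat_lit 30000)) (n := (nat_lit 2000)) (b := (nat_lit 32000)) h d30000 rfl
  have h := zero_lt_add (a := (nat_lit 32000)) (n := (nat_lit 2000)) (b := (nat_lit 34000)) h d32000 rfl
  have h := zero_lt_add (a := (nat_lit 34000)) (n := (nat_lit 2000)) (b := (nat_lit 36000)) h d34000 rfl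
  have h := zero_lt_add (a := (nat_lit 36000)) (n := (nat_lit 2000)) (b := (nat_lit 38000)) h d36000 rfl
  have h := zero_lt_add (a := (nat_lit 38000)) (n := (nat_lit 2000)) (b := (nat_lit 40000)) h d38000 rfl
  have h := zero_lt_add (a := (nat_lit 40000)) (n := (nat_lit 2000)) (b := (nat_lit 42000)) h d40000 rfl
  have h := zero_lt_add (a := (nat_lit 42000)) (n := (nat_lit 2000)) (b := (nat_lit 44000)) h d42000 rfl
  have h := zero_lt_add (a := (nat_lit 44000)) (n := (nat_lit 2000)) (b := (nat_lit 46000)) h d44000 rfl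
  have h := zero_lt_add (a := (nat_lit 46000)) (n := (nat_lit 2000)) (b := (nat_lit 48000)) h d46000 rfl
  have h := zero_lt_add (a := (nat_lit 48000)) (n := (nat_lit 2000)) (b := (nat_lit 50000)) h d48000 rfl
  have h := zero_lt_add (a := (nat_lit 50000)) (n := (nat_lit 2000)) (b := (nat_lit 52000)) h d50000 rfl
  have h := zero_lt_add (a := (nat_lit 52000)) (n := (nat_lit 2000)) (b := (nat_lit 54000)) h d52000 rfl
  have h := zero_lt_add (a := (nat_lit 54000)) (n := (nat_lit 2000)) (b := (nat_lit 56000)) h d54000 rfl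
  have h := zero_lt_add (a := (nat_lit 56000)) (n := (nat_lit 924)) (b := (nat_lit 56924)) h d56000 rfl
  exact h
theorem cl : Cl q sg 0 V 56925 := md.cl2 cs h3 (reps_tabs (Co2.md0).reps (by decide +kernel) h4) (M' := 8) (t := Ct) (by decide +kernel)
  (by rw [Co2.card]; decide +kernel)
theorem k2 : ∀ i < 56925, u2 i = 0 := by
  have h := zero_lt_zero u2
  have h := zero_lt_add (a := (nat_lit 0)) (n := (nat_lit 2500)) (b := (nat_lit 2500)) h v2x0 rfl
  have h := zero_lt_add (a := (nat_lit 2500)) (n := (nat_lit 2500)) (b := (nat_lit 5000)) h v2x2500 rfl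
  have h := zero_lt_add (a := (nat_lit 5000)) (n := (nat_lit 2500)) (b := (nat_lit 7500)) h v2x5000 rfl
  have h := zero_lt_add (a := (nat_lit 7500)) (n := (nat_lit 2500)) (b := (nat_lit 10000)) h v2x7500 rfl
  have h := zero_lt_add (a := (nat_lit 10000)) (n := (nat_lit 2500)) (b := (nat_lit 12500)) h v2x10000 rfl
  have h := zero_lt_add (a := (nat_lit 12500)) (n := (nat_lit 2500)) (b := (nat_lit 15000)) h v2x12500 rfl
  have h := zero_lt_add (a := (nat_lit 15000)) (n := (nat_lit 2500)) (b := (nat_lit 17500)) h v2x15000 rfl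
  have h := zero_lt_add (a := (nat_lit 17500)) (n := (nat_lit 2500)) (b := (nat_lit 20000)) h v2x17500 rfl
  have h := zero_lt_add (a := (nat_lit 20000)) (n := (nat_lit 2500)) (b := (nat_lit 22500)) h v2x20000 rfl
  have h := zero_lt_add (a := (nat_lit 22500)) (n := (nat_lit 2500)) (b := (nat_lit 25000)) h v2x22500 rfl
  have h := zero_lt_add (a := (nat_lit 25000)) (n := (nat_lit 2500)) (b := (nat_lit 27500)) h v2x25000 rfl
  have h := zero_lt_add (a := (nat_lit 27500)) (n := (nat_lit 2500)) (b := (nat_lit 30000)) h v2x27500 rfl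
  have h := zero_lt_add (a := (nat_lit 30000)) (n := (nat_lit 2500)) (b := (nat_lit 32500)) h v2x30000 rfl
  have h := zero_lt_add (a := (nat_lit 32500)) (n := (nat_lit 2500)) (b := (nat_lit 35000)) h v2x32500 rfl
  have h := zero_lt_add (a := (nat_lit 35000)) (n := (nat_lit 2500)) (b := (nat_lit 37500)) h v2x35000 rfl
  have h := zero_lt_add (a := (nat_lit 37500)) (n := (nat_lit 2500)) (b := (nat_lit 40000)) h v2x37500 rfl
  have h := zero_lt_add (a := (nat_lit 40000)) (n := (nat_lit 2500)) (b := (nat_lit 42500)) h v2x40000 rfl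
  have h := zero_lt_add (a := (nat_lit 42500)) (n := (nat_lit 2500)) (b := (nat_lit 45000)) h v2x42500 rfl
  have h := zero_lt_add (a := (nat_lit 45000)) (n := (nat_lit 2500)) (b := (nat_lit 47500)) h v2x45000 rfl
  have h := zero_lt_add (a := (nat_lit 47500)) (n := (nat_lit 2500)) (b := (nat_lit 50000)) h v2x47500 rfl
  have h := zero_lt_add (a := (nat_lit 50000)) (n := (nat_lit 2500)) (b := (nat_lit 52500)) h v2x50000 rfl
  have h := zero_lt_add (a := (nat_lit 52500)) (n := (nat_lit 2500)) (b := (nat_lit 55000)) h v2x52500 rfl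
  have h := zero_lt_add (a := (nat_lit 55000)) (n := (nat_lit 1925)) (b := (nat_lit 56925)) h v2x55000 rfl
  exact h
theorem o2 : CardLE (Fx q [nat_lit 23, nat_lit 22, nat_lit 0]) 4 := md.lvc cs cl au (aw := [nat_lit 18, nat_lit 21, nat_lit 19, nat_lit 21, nat_lit 21, nat_lit 21, nat_lit 18]) (y := 24) (by decide +kernel) k2 n2 o3
theorem k1 : ∀ i < 56925, u1 i = 0 := by
  have h := zero_lt_zero u1
  have h := zero_lt_add (a := (nat_lit 0)) (n := (nat_lit 2500)) (b := (nat_lit 2500)) h v1x0 rfl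
  have h := zero_lt_add (a := (nat_lit 2500)) (n := (nat_lit 2500)) (b := (nat_lit 5000)) h v1x2500 rfl
  have h := zero_lt_add (a := (nat_lit 5000)) (n := (nat_lit 2500)) (b := (nat_lit 7500)) h v1x5000 rfl
  have h := zero_lt_add (a := (nat_lit 7500)) (n := (nat_lit 2500)) (b := (nat_lit 10000)) h v1x7500 rfl
  have h := zero_lt_add (a := (nat_lit 10000)) (n := (nat_lit 2500)) (b := (nat_lit 12500)) h v1x10000 rfl
  have h := zero_lt_add (a := (nat_lit 12500)) (n := (nat_lit 2500)) (b := (nat_lit 15000)) h v1x12500 rfl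
  have h := zero_lt_add (a := (nat_lit 15000)) (n := (nat_lit 2500)) (b := (nat_lit 17500)) h v1x15000 rfl
  have h := zero_lt_add (a := (nat_lit 17500)) (n := (nat_lit 2500)) (b := (nat_lit 20000)) h v1x17500 rfl
  have h := zero_lt_add (a := (nat_lit 20000)) (n := (nat_lit 2500)) (b := (nat_lit 22500)) h v1x20000 rfl
  have h := zero_lt_add (a := (nat_lit 22500)) (n := (nat_lit 2500)) (b := (nat_lit 25000)) h v1x22500 rfl
  have h := zero_lt_add (a := (nat_lit 25000)) (n := (nat_lit 2500)) (b := (nat_lit 27500)) h v1x25000 rfl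
  have h := zero_lt_add (a := (nat_lit 27500)) (n := (nat_lit 2500)) (b := (nat_lit 30000)) h v1x27500 rfl
  have h := zero_lt_add (a := (nat_lit 30000)) (n := (nat_lit 2500)) (b := (nat_lit 32500)) h v1x30000 rfl
  have h := zero_lt_add (a := (nat_lit 32500)) (n := (nat_lit 2500)) (b := (nat_lit 35000)) h v1x32500 rfl
  have h := zero_lt_add (a := (nat_lit 35000)) (n := (nat_lit 2500)) (b := (nat_lit 37500)) h v1x35000 rfl
  have h := zero_lt_add (a := (nat_lit 37500)) (n := (nat_lit 2500)) (b := (nat_lit 40000)) h v1x37500 rfl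
  have h := zero_lt_add (a := (nat_lit 40000)) (n := (nat_lit 2500)) (b := (nat_lit 42500)) h v1x40000 rfl
  have h := zero_lt_add (a := (nat_lit 42500)) (n := (nat_lit 2500)) (b := (nat_lit 45000)) h v1x42500 rfl
  have h := zero_lt_add (a := (nat_lit 45000)) (n := (nat_lit 2500)) (b := (nat_lit 47500)) h v1x45000 rfl
  have h := zero_lt_add (a := (nat_lit 47500)) (n := (nat_lit 2500)) (b := (nat_lit 50000)) h v1x47500 rfl
  have h := zero_lt_add (a := (nat_lit 50000)) (n := (nat_lit 2500)) (b := (nat_lit 52500)) h v1x50000 rfl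
  have h := zero_lt_add (a := (nat_lit 52500)) (n := (nat_lit 2500)) (b := (nat_lit 55000)) h v1x52500 rfl
  have h := zero_lt_add (a := (nat_lit 55000)) (n := (nat_lit 1925)) (b := (nat_lit 56925)) h v1x55000 rfl
  exact h
theorem o1 : CardLE (Fx q [nat_lit 22, nat_lit 0]) 51840 := md.lvc cs cl au (aw := [nat_lit 19, nat_lit 20, nat_lit 18, nat_lit 21]) (y := 23) (by decide +kernel) k1 n1 o2
theorem k0 : ∀ i < 56925, u0 i = 0 := by
  have h := zero_lt_zero u0
  have h := zero_lt_add (a := (nat_lit 0)) (n := (nat_lit 2500)) (b := (nat_lit 2500)) h v0x0 rfl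
  have h := zero_lt_add (a := (nat_lit 2500)) (n := (nat_lit 2500)) (b := (nat_lit 5000)) h v0x2500 rfl
  have h := zero_lt_add (a := (nat_lit 5000)) (n := (nat_lit 2500)) (b := (nat_lit 7500)) h v0x5000 rfl
  have h := zero_lt_add (a := (nat_lit 7500)) (n := (nat_lit 2500)) (b := (nat_lit 10000)) h v0x7500 rfl
  have h := zero_lt_add (a := (nat_lit 10000)) (n := (nat_lit 2500)) (b := (nat_lit 12500)) h v0x10000 rfl
  have h := zero_lt_add (a := (nat_lit 12500)) (n := (nat_lit 2500)) (b := (nat_lit 15000)) h v0x12500 rfl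
  have h := zero_lt_add (a := (nat_lit 15000)) (n := (nat_lit 2500)) (b := (nat_lit 17500)) h v0x15000 rfl
  have h := zero_lt_add (a := (nat_lit 17500)) (n := (nat_lit 2500)) (b := (nat_lit 20000)) h v0x17500 rfl
  have h := zero_lt_add (a := (nat_lit 20000)) (n := (nat_lit 2500)) (b := (nat_lit 22500)) h v0x20000 rfl
  have h := zero_lt_add (a := (nat_lit 22500)) (n := (nat_lit 2500)) (b := (nat_lit 25000)) h v0x22500 rfl
  have h := zero_lt_add (a := (nat_lit 25000)) (n := (nat_lit 2500)) (b := (nat_lit 27500)) h v0x25000 rfl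
  have h := zero_lt_add (a := (nat_lit 27500)) (n := (nat_lit 2500)) (b := (nat_lit 30000)) h v0x27500 rfl
  have h := zero_lt_add (a := (nat_lit 30000)) (n := (nat_lit 2500)) (b := (nat_lit 32500)) h v0x30000 rfl
  have h := zero_lt_add (a := (nat_lit 32500)) (n := (nat_lit 2500)) (b := (nat_lit 35000)) h v0x32500 rfl
  have h := zero_lt_add (a := (nat_lit 35000)) (n := (nat_lit 2500)) (b := (nat_lit 37500)) h v0x35000 rfl
  have h := zero_lt_add (a := (nat_lit 37500)) (n := (nat_lit 2500)) (b := (nat_lit 40000)) h v0x37500 rfl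
  have h := zero_lt_add (a := (nat_lit 40000)) (n := (nat_lit 2500)) (b := (nat_lit 42500)) h v0x40000 rfl
  have h := zero_lt_add (a := (nat_lit 42500)) (n := (nat_lit 2500)) (b := (nat_lit 45000)) h v0x42500 rfl
  have h := zero_lt_add (a := (nat_lit 45000)) (n := (nat_lit 2500)) (b := (nat_lit 47500)) h v0x45000 rfl
  have h := zero_lt_add (a := (nat_lit 47500)) (n := (nat_lit 2500)) (b := (nat_lit 50000)) h v0x47500 rfl
  have h := zero_lt_add (a := (nat_lit 50000)) (n := (nat_lit 2500)) (b := (nat_lit 52500)) h v0x50000 rfl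
  have h := zero_lt_add (a := (nat_lit 52500)) (n := (nat_lit 2500)) (b := (nat_lit 55000)) h v0x52500 rfl
  have h := zero_lt_add (a := (nat_lit 55000)) (n := (nat_lit 1925)) (b := (nat_lit 56925)) h v0x55000 rfl
  exact h
theorem o0 : CardLE (Fx q [nat_lit 0]) 743178240 := md.lvc cs cl au (aw := [nat_lit 21, nat_lit 21]) (y := 22) (by decide +kernel) k0 n0 o1
theorem aut : Nat.card (MulAut (Cfsg.Spor.Co2)) ≤ 56925 * 743178240 := cl.top au o0
theorem out : Nat.card (Cfsg.Out (Cfsg.Spor.Co2)) = 1 := out_one (Co2.ctr) aut (by rw [Co2.card]; decide)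

end Cfsg.Agent.Ct.Co2o
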