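import Cfsg.Agent.Lib.Cert.Co2o.D

set_option autoImplicit false
set_option maxRecDepth 100000

namespace Cfsg.Agent.Ct.Co2o

open Cfsg.Agent.PC

open Cfsg.Agent.Fi Cfsg.Agent.Ct
theorem a1256 : Nat.beq (rng f0 (nat_lit 1256) (nat_lit 157)) (nat_lit 0) = true := by decide +kernel
theorem a1413 : Nat.beq (rng f0 (nat_lit 1413) (nat_lit 157)) (nat_lit 0) = true := by decide +kernel
theorem a1570 : Nat.beq (rng f0 (nat_lit 1570) (nat_lit 157)) (nat_lit 0) = true := by decide +kernel
theorem a1727 : Nat.beq (rng f0 (nat_lit 1727) (nat_lit 157)) (nat_lit 0) = true := by decide +kernel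
theorem a1884 : Nat.beq (rng f0 (nat_lit 1884) (nat_lit 157)) (nat_lit 0) = true := by decide +kernel
theorem a2041 : Nat.beq (rng f0 (nat_lit 2041) (nat_lit 157)) (nat_lit 0) = true := by decide +kernel
theorem a2198 : Nat.beq (rng f0 (nat_lit 2198) (nat_lit 157)) (nat_lit 0) = true := by decide +kernel
theorem a2355 : Nat.beq (rng f0 (nat_lit 2355) (nat_lit 157)) (nat_lit 0) = true := by decide +kernel

end Cfsg.Agent.Ct.Co2o
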