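import Cfsg.Agent.Lib.Cert.Co2o.D

set_option autoImplicit false
set_option maxRecDepth 100000

namespace Cfsg.Agent.Ct.Co2o

open Cfsg.Agent.PC

open Cfsg.Agent.Fi Cfsg.Agent.Ct
theorem b204800 : Nat.beq (rng f1 (nat_lit 204800) (nat_lit 4096)) (nat_lit 0) = true := by decide +kernel
theorem b208896 : Nat.beq (rng f1 (nat_lit 208896) (nat_lit 4096)) (nat_lit 0) = true := by decide +kernel
theorem b212992 : Nat.beq (rng f1 (nat_lit 212992) (nat_lit 4096)) (nat_lit 0) = true := by decide +kernel
theorem b217088 : Nat.beq (rng f1 (nat_lit 217088) (nat_lit 4096)) (nat_lit 0) = true := by decide +kernel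
theorem b221184 : Nat.beq (rng f1 (nat_lit 221184) (nat_lit 4096)) (nat_lit 0) = true := by decide +kernel
theorem b225280 : Nat.beq (rng f1 (nat_lit 225280) (nat_lit 4096)) (nat_lit 0) = true := by decide +kernel
theorem b229376 : Nat.beq (rng f1 (nat_lit 229376) (nat_lit 4096)) (nat_lit 0) = true := by decide +kernel
theorem b233472 : Nat.beq (rng f1 (nat_lit 233472) (nat_lit 4096)) (nat_lit 0) = true := by decide +kernel

end Cfsg.Agent.Ct.Co2o
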