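import Cfsg.Agent.Lib.Cert.Co2o.D

set_option autoImplicit false
set_option maxRecDepth 100000

namespace Cfsg.Agent.Ct.Co2o

open Cfsg.Agent.PC

open Cfsg.Agent.Fi Cfsg.Agent.Ct
theorem b237568 : Nat.beq (rng f1 (nat_lit 237568) (nat_lit 4096)) (nat_lit 0) = true := by decide +kernel
theorem b241664 : Nat.beq (rng f1 (nat_lit 241664) (nat_lit 4096)) (nat_lit 0) = true := by decide +kernel
theorem b245760 : Nat.beq (rng f1 (nat_lit 245760) (nat_lit 4096)) (nat_lit 0) = true := by decide +kernel
theorem b249856 : Nat.beq (rng f1 (nat_lit 249856) (nat_lit 4096)) (nat_lit 0) = true := by decide +kernel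
theorem b253952 : Nat.beq (rng f1 (nat_lit 253952) (nat_lit 4096)) (nat_lit 0) = true := by decide +kernel
theorem b258048 : Nat.beq (rng f1 (nat_lit 258048) (nat_lit 4096)) (nat_lit 0) = true := by decide +kernel
theorem c0 : Nat.beq (rng f2 (nat_lit 0) (nat_lit 2048)) (nat_lit 0) = true := by decide +kernel
theorem c2048 : Nat.beq (rng f2 (nat_lit 2048) (nat_lit 2048)) (nat_lit 0) = true := by decide +kernel

end Cfsg.Agent.Ct.Co2o
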