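import Cfsg.Agent.Lib.Cert.Co2o.D

set_option autoImplicit false
set_option maxRecDepth 100000

namespace Cfsg.Agent.Ct.Co2o

open Cfsg.Agent.PC

open Cfsg.Agent.Fi Cfsg.Agent.Ct
theorem c4096 : Nat.beq (rng f2 (nat_lit 4096) (nat_lit 2048)) (nat_lit 0) = true := by decide +kernel
theorem c6144 : Nat.beq (rng f2 (nat_lit 6144) (nat_lit 2048)) (nat_lit 0) = true := by decide +kernel
theorem c8192 : Nat.beq (rng f2 (nat_lit 8192) (nat_lit 2048)) (nat_lit 0) = true := by decide +kernel
theorem c10240 : Nat.beq (rng f2 (nat_lit 10240) (nat_lit 2048)) (nat_lit 0) = true := by decide +kernel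
theorem c12288 : Nat.beq (rng f2 (nat_lit 12288) (nat_lit 2048)) (nat_lit 0) = true := by decide +kernel
theorem c14336 : Nat.beq (rng f2 (nat_lit 14336) (nat_lit 2048)) (nat_lit 0) = true := by decide +kernel
theorem c16384 : Nat.beq (rng f2 (nat_lit 16384) (nat_lit 2048)) (nat_lit 0) = true := by decide +kernel
theorem c18432 : Nat.beq (rng f2 (nat_lit 18432) (nat_lit 2048)) (nat_lit 0) = true := by decide +kernel

end Cfsg.Agent.Ct.Co2o
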