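import Cfsg.Agent.Lib.Cert.Co2o.D

set_option autoImplicit false
set_option maxRecDepth 100000

namespace Cfsg.Agent.Ct.Co2o

open Cfsg.Agent.PC

open Cfsg.Agent.Fi Cfsg.Agent.Ct
theorem c20480 : Nat.beq (rng f2 (nat_lit 20480) (nat_lit 2048)) (nat_lit 0) = true := by decide +kernel
theorem c22528 : Nat.beq (rng f2 (nat_lit 22528) (nat_lit 2048)) (nat_lit 0) = true := by decide +kernel
theorem c24576 : Nat.beq (rng f2 (nat_lit 24576) (nat_lit 2048)) (nat_lit 0) = true := by decide +kernel
theorem c26624 : Nat.beq (rng f2 (nat_lit 26624) (nat_lit 2048)) (nat_lit 0) = true := by decide +kernel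
theorem c28672 : Nat.beq (rng f2 (nat_lit 28672) (nat_lit 2048)) (nat_lit 0) = true := by decide +kernel
theorem c30720 : Nat.beq (rng f2 (nat_lit 30720) (nat_lit 2048)) (nat_lit 0) = true := by decide +kernel
theorem c32768 : Nat.beq (rng f2 (nat_lit 32768) (nat_lit 2048)) (nat_lit 0) = true := by decide +kernel
theorem c34816 : Nat.beq (rng f2 (nat_lit 34816) (nat_lit 2048)) (nat_lit 0) = true := by decide +kernel

end Cfsg.Agent.Ct.Co2o
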