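import Cfsg.Agent.Lib.Cert.Co2o.D

set_option autoImplicit false
set_option maxRecDepth 100000

namespace Cfsg.Agent.Ct.Co2o

open Cfsg.Agent.PC

open Cfsg.Agent.Fi Cfsg.Agent.Ct
theorem c53248 : Nat.beq (rng f2 (nat_lit 53248) (nat_lit 2048)) (nat_lit 0) = true := by decide +kernel
theorem c55296 : Nat.beq (rng f2 (nat_lit 55296) (nat_lit 2048)) (nat_lit 0) = true := by decide +kernel
theorem c57344 : Nat.beq (rng f2 (nat_lit 57344) (nat_lit 2048)) (nat_lit 0) = true := by decide +kernel
theorem c59392 : Nat.beq (rng f2 (nat_lit 59392) (nat_lit 2048)) (nat_lit 0) = true := by decide +kernel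
theorem c61440 : Nat.beq (rng f2 (nat_lit 61440) (nat_lit 2048)) (nat_lit 0) = true := by decide +kernel
theorem c63488 : Nat.beq (rng f2 (nat_lit 63488) (nat_lit 2048)) (nat_lit 0) = true := by decide +kernel
theorem c65536 : Nat.beq (rng f2 (nat_lit 65536) (nat_lit 2048)) (nat_lit 0) = true := by decide +kernel
theorem c67584 : Nat.beq (rng f2 (nat_lit 67584) (nat_lit 2048)) (nat_lit 0) = true := by decide +kernel

end Cfsg.Agent.Ct.Co2o
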