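import Cfsg.Agent.Lib.Cert.Co2o.D

set_option autoImplicit false
set_option maxRecDepth 100000

namespace Cfsg.Agent.Ct.Co2o

open Cfsg.Agent.PC

open Cfsg.Agent.Fi Cfsg.Agent.Ct
theorem c69632 : Nat.beq (rng f2 (nat_lit 69632) (nat_lit 2048)) (nat_lit 0) = true := by decide +kernel
theorem c71680 : Nat.beq (rng f2 (nat_lit 71680) (nat_lit 2048)) (nat_lit 0) = true := by decide +kernel
theorem c73728 : Nat.beq (rng f2 (nat_lit 73728) (nat_lit 2048)) (nat_lit 0) = true := by decide +kernel
theorem c75776 : Nat.beq (rng f2 (nat_lit 75776) (nat_lit 2048)) (nat_lit 0) = true := by decide +kernel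
theorem c77824 : Nat.beq (rng f2 (nat_lit 77824) (nat_lit 2048)) (nat_lit 0) = true := by decide +kernel
theorem c79872 : Nat.beq (rng f2 (nat_lit 79872) (nat_lit 2048)) (nat_lit 0) = true := by decide +kernel
theorem c81920 : Nat.beq (rng f2 (nat_lit 81920) (nat_lit 2048)) (nat_lit 0) = true := by decide +kernel
theorem c83968 : Nat.beq (rng f2 (nat_lit 83968) (nat_lit 2048)) (nat_lit 0) = true := by decide +kernel

end Cfsg.Agent.Ct.Co2o
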