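import Cfsg.Agent.Lib.Cert.Co2o.D

set_option autoImplicit false
set_option maxRecDepth 100000

namespace Cfsg.Agent.Ct.Co2o

open Cfsg.Agent.PC

open Cfsg.Agent.Fi Cfsg.Agent.Ct
theorem c86016 : Nat.beq (rng f2 (nat_lit 86016) (nat_lit 2048)) (nat_lit 0) = true := by decide +kernel
theorem c88064 : Nat.beq (rng f2 (nat_lit 88064) (nat_lit 2048)) (nat_lit 0) = true := by decide +kernel
theorem c90112 : Nat.beq (rng f2 (nat_lit 90112) (nat_lit 2048)) (nat_lit 0) = true := by decide +kernel
theorem c92160 : Nat.beq (rng f2 (nat_lit 92160) (nat_lit 2048)) (nat_lit 0) = true := by decide +kernel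
theorem c94208 : Nat.beq (rng f2 (nat_lit 94208) (nat_lit 2048)) (nat_lit 0) = true := by decide +kernel
theorem c96256 : Nat.beq (rng f2 (nat_lit 96256) (nat_lit 2048)) (nat_lit 0) = true := by decide +kernel
theorem c98304 : Nat.beq (rng f2 (nat_lit 98304) (nat_lit 2048)) (nat_lit 0) = true := by decide +kernel
theorem c100352 : Nat.beq (rng f2 (nat_lit 100352) (nat_lit 2048)) (nat_lit 0) = true := by decide +kernel

end Cfsg.Agent.Ct.Co2o
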