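import Cfsg.Agent.Lib.Cert.Co2o.D

set_option autoImplicit false
set_option maxRecDepth 100000

namespace Cfsg.Agent.Ct.Co2o

open Cfsg.Agent.PC

open Cfsg.Agent.Fi Cfsg.Agent.Ct
theorem c102400 : Nat.beq (rng f2 (nat_lit 102400) (nat_lit 2048)) (nat_lit 0) = true := by decide +kernel
theorem c104448 : Nat.beq (rng f2 (nat_lit 104448) (nat_lit 2048)) (nat_lit 0) = true := by decide +kernel
theorem c106496 : Nat.beq (rng f2 (nat_lit 106496) (nat_lit 2048)) (nat_lit 0) = true := by decide +kernel
theorem c108544 : Nat.beq (rng f2 (nat_lit 108544) (nat_lit 2048)) (nat_lit 0) = true := by decide +kernel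
theorem c110592 : Nat.beq (rng f2 (nat_lit 110592) (nat_lit 2048)) (nat_lit 0) = true := by decide +kernel
theorem c112640 : Nat.beq (rng f2 (nat_lit 112640) (nat_lit 2048)) (nat_lit 0) = true := by decide +kernel
theorem c114688 : Nat.beq (rng f2 (nat_lit 114688) (nat_lit 2048)) (nat_lit 0) = true := by decide +kernel
theorem c116736 : Nat.beq (rng f2 (nat_lit 116736) (nat_lit 2048)) (nat_lit 0) = true := by decide +kernel

end Cfsg.Agent.Ct.Co2o
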