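import Cfsg.Agent.Lib.Cert.Co2o.D

set_option autoImplicit false
set_option maxRecDepth 100000

namespace Cfsg.Agent.Ct.Co2o

open Cfsg.Agent.PC

open Cfsg.Agent.Fi Cfsg.Agent.Ct
theorem c118784 : Nat.beq (rng f2 (nat_lit 118784) (nat_lit 2048)) (nat_lit 0) = true := by decide +kernel
theorem c120832 : Nat.beq (rng f2 (nat_lit 120832) (nat_lit 2048)) (nat_lit 0) = true := by decide +kernel
theorem c122880 : Nat.beq (rng f2 (nat_lit 122880) (nat_lit 2048)) (nat_lit 0) = true := by decide +kernel
theorem c124928 : Nat.beq (rng f2 (nat_lit 124928) (nat_lit 2048)) (nat_lit 0) = true := by decide +kernel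
theorem c126976 : Nat.beq (rng f2 (nat_lit 126976) (nat_lit 2048)) (nat_lit 0) = true := by decide +kernel
theorem c129024 : Nat.beq (rng f2 (nat_lit 129024) (nat_lit 2048)) (nat_lit 0) = true := by decide +kernel
theorem c131072 : Nat.beq (rng f2 (nat_lit 131072) (nat_lit 2048)) (nat_lit 0) = true := by decide +kernel
theorem c133120 : Nat.beq (rng f2 (nat_lit 133120) (nat_lit 2048)) (nat_lit 0) = true := by decide +kernel

end Cfsg.Agent.Ct.Co2o
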