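import Cfsg.Agent.Lib.Cert.Co2o.D

set_option autoImplicit false
set_option maxRecDepth 100000

namespace Cfsg.Agent.Ct.Co2o

open Cfsg.Agent.PC

open Cfsg.Agent.Fi Cfsg.Agent.Ct
theorem a2512 : Nat.beq (rng f0 (nat_lit 2512) (nat_lit 157)) (nat_lit 0) = true := by decide +kernel
theorem a2669 : Nat.beq (rng f0 (nat_lit 2669) (nat_lit 157)) (nat_lit 0) = true := by decide +kernel
theorem a2826 : Nat.beq (rng f0 (nat_lit 2826) (nat_lit 157)) (nat_lit 0) = true := by decide +kernel
theorem a2983 : Nat.beq (rng f0 (nat_lit 2983) (nat_lit 157)) (nat_lit 0) = true := by decide +kernel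
theorem a3140 : Nat.beq (rng f0 (nat_lit 3140) (nat_lit 157)) (nat_lit 0) = true := by decide +kernel
theorem a3297 : Nat.beq (rng f0 (nat_lit 3297) (nat_lit 157)) (nat_lit 0) = true := by decide +kernel
theorem a3454 : Nat.beq (rng f0 (nat_lit 3454) (nat_lit 157)) (nat_lit 0) = true := by decide +kernel
theorem a3611 : Nat.beq (rng f0 (nat_lit 3611) (nat_lit 157)) (nat_lit 0) = true := by decide +kernel

end Cfsg.Agent.Ct.Co2o
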