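import Cfsg.Agent.Lib.Cert.Co2o.D

set_option autoImplicit false
set_option maxRecDepth 100000

namespace Cfsg.Agent.Ct.Co2o

open Cfsg.Agent.PC

open Cfsg.Agent.Fi Cfsg.Agent.Ct
theorem c135168 : Nat.beq (rng f2 (nat_lit 135168) (nat_lit 2048)) (nat_lit 0) = true := by decide +kernel
theorem c137216 : Nat.beq (rng f2 (nat_lit 137216) (nat_lit 2048)) (nat_lit 0) = true := by decide +kernel
theorem c139264 : Nat.beq (rng f2 (nat_lit 139264) (nat_lit 2048)) (nat_lit 0) = true := by decide +kernel
theorem c141312 : Nat.beq (rng f2 (nat_lit 141312) (nat_lit 2048)) (nat_lit 0) = true := by decide +kernel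
theorem c143360 : Nat.beq (rng f2 (nat_lit 143360) (nat_lit 2048)) (nat_lit 0) = true := by decide +kernel
theorem c145408 : Nat.beq (rng f2 (nat_lit 145408) (nat_lit 2048)) (nat_lit 0) = true := by decide +kernel
theorem c147456 : Nat.beq (rng f2 (nat_lit 147456) (nat_lit 2048)) (nat_lit 0) = true := by decide +kernel
theorem c149504 : Nat.beq (rng f2 (nat_lit 149504) (nat_lit 2048)) (nat_lit 0) = true := by decide +kernel

end Cfsg.Agent.Ct.Co2o
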