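import Cfsg.Agent.Lib.Cert.Co2o.D

set_option autoImplicit false
set_option maxRecDepth 100000

namespace Cfsg.Agent.Ct.Co2o

open Cfsg.Agent.PC

open Cfsg.Agent.Fi Cfsg.Agent.Ct
theorem c151552 : Nat.beq (rng f2 (nat_lit 151552) (nat_lit 2048)) (nat_lit 0) = true := by decide +kernel
theorem c153600 : Nat.beq (rng f2 (nat_lit 153600) (nat_lit 2048)) (nat_lit 0) = true := by decide +kernel
theorem c155648 : Nat.beq (rng f2 (nat_lit 155648) (nat_lit 2048)) (nat_lit 0) = true := by decide +kernel
theorem c157696 : Nat.beq (rng f2 (nat_lit 157696) (nat_lit 2048)) (nat_lit 0) = true := by decide +kernel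
theorem c159744 : Nat.beq (rng f2 (nat_lit 159744) (nat_lit 2048)) (nat_lit 0) = true := by decide +kernel
theorem c161792 : Nat.beq (rng f2 (nat_lit 161792) (nat_lit 2048)) (nat_lit 0) = true := by decide +kernel
theorem c163840 : Nat.beq (rng f2 (nat_lit 163840) (nat_lit 2048)) (nat_lit 0) = true := by decide +kernel
theorem c165888 : Nat.beq (rng f2 (nat_lit 165888) (nat_lit 2048)) (nat_lit 0) = true := by decide +kernel

end Cfsg.Agent.Ct.Co2o
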