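import Cfsg.Agent.Lib.Cert.Co2o.D

set_option autoImplicit false
set_option maxRecDepth 100000

namespace Cfsg.Agent.Ct.Co2o

open Cfsg.Agent.PC

open Cfsg.Agent.Fi Cfsg.Agent.Ct
theorem c167936 : Nat.beq (rng f2 (nat_lit 167936) (nat_lit 2048)) (nat_lit 0) = true := by decide +kernel
theorem c169984 : Nat.beq (rng f2 (nat_lit 169984) (nat_lit 2048)) (nat_lit 0) = true := by decide +kernel
theorem c172032 : Nat.beq (rng f2 (nat_lit 172032) (nat_lit 2048)) (nat_lit 0) = true := by decide +kernel
theorem c174080 : Nat.beq (rng f2 (nat_lit 174080) (nat_lit 2048)) (nat_lit 0) = true := by decide +kernel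
theorem c176128 : Nat.beq (rng f2 (nat_lit 176128) (nat_lit 2048)) (nat_lit 0) = true := by decide +kernel
theorem c178176 : Nat.beq (rng f2 (nat_lit 178176) (nat_lit 2048)) (nat_lit 0) = true := by decide +kernel
theorem c180224 : Nat.beq (rng f2 (nat_lit 180224) (nat_lit 2048)) (nat_lit 0) = true := by decide +kernel
theorem c182272 : Nat.beq (rng f2 (nat_lit 182272) (nat_lit 2048)) (nat_lit 0) = true := by decide +kernel

end Cfsg.Agent.Ct.Co2o
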