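import Cfsg.Agent.Lib.Cert.Co2o.D

set_option autoImplicit false
set_option maxRecDepth 100000

namespace Cfsg.Agent.Ct.Co2o

open Cfsg.Agent.PC

open Cfsg.Agent.Fi Cfsg.Agent.Ct
theorem c184320 : Nat.beq (rng f2 (nat_lit 184320) (nat_lit 2048)) (nat_lit 0) = true := by decide +kernel
theorem c186368 : Nat.beq (rng f2 (nat_lit 186368) (nat_lit 2048)) (nat_lit 0) = true := by decide +kernel
theorem c188416 : Nat.beq (rng f2 (nat_lit 188416) (nat_lit 2048)) (nat_lit 0) = true := by decide +kernel
theorem c190464 : Nat.beq (rng f2 (nat_lit 190464) (nat_lit 2048)) (nat_lit 0) = true := by decide +kernel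
theorem c192512 : Nat.beq (rng f2 (nat_lit 192512) (nat_lit 2048)) (nat_lit 0) = true := by decide +kernel
theorem c194560 : Nat.beq (rng f2 (nat_lit 194560) (nat_lit 2048)) (nat_lit 0) = true := by decide +kernel
theorem c196608 : Nat.beq (rng f2 (nat_lit 196608) (nat_lit 2048)) (nat_lit 0) = true := by decide +kernel
theorem c198656 : Nat.beq (rng f2 (nat_lit 198656) (nat_lit 2048)) (nat_lit 0) = true := by decide +kernel

end Cfsg.Agent.Ct.Co2o
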