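import Cfsg.Agent.Lib.Cert.Co2o.D

set_option autoImplicit false
set_option maxRecDepth 100000

namespace Cfsg.Agent.Ct.Co2o

open Cfsg.Agent.PC

open Cfsg.Agent.Fi Cfsg.Agent.Ct
theorem c200704 : Nat.beq (rng f2 (nat_lit 200704) (nat_lit 2048)) (nat_lit 0) = true := by decide +kernel
theorem c202752 : Nat.beq (rng f2 (nat_lit 202752) (nat_lit 2048)) (nat_lit 0) = true := by decide +kernel
theorem c204800 : Nat.beq (rng f2 (nat_lit 204800) (nat_lit 2048)) (nat_lit 0) = true := by decide +kernel
theorem c206848 : Nat.beq (rng f2 (nat_lit 206848) (nat_lit 2048)) (nat_lit 0) = true := by decide +kernel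
theorem c208896 : Nat.beq (rng f2 (nat_lit 208896) (nat_lit 2048)) (nat_lit 0) = true := by decide +kernel
theorem c210944 : Nat.beq (rng f2 (nat_lit 210944) (nat_lit 2048)) (nat_lit 0) = true := by decide +kernel
theorem c212992 : Nat.beq (rng f2 (nat_lit 212992) (nat_lit 2048)) (nat_lit 0) = true := by decide +kernel
theorem c215040 : Nat.beq (rng f2 (nat_lit 215040) (nat_lit 2048)) (nat_lit 0) = true := by decide +kernel

end Cfsg.Agent.Ct.Co2o
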