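import Cfsg.Agent.Lib.Cert.Co2o.D

set_option autoImplicit false
set_option maxRecDepth 100000

namespace Cfsg.Agent.Ct.Co2o

open Cfsg.Agent.PC

open Cfsg.Agent.Fi Cfsg.Agent.Ct
theorem c233472 : Nat.beq (rng f2 (nat_lit 233472) (nat_lit 2048)) (nat_lit 0) = true := by decide +kernel
theorem c235520 : Nat.beq (rng f2 (nat_lit 235520) (nat_lit 2048)) (nat_lit 0) = true := by decide +kernel
theorem c237568 : Nat.beq (rng f2 (nat_lit 237568) (nat_lit 2048)) (nat_lit 0) = true := by decide +kernel
theorem c239616 : Nat.beq (rng f2 (nat_lit 239616) (nat_lit 2048)) (nat_lit 0) = true := by decide +kernel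
theorem c241664 : Nat.beq (rng f2 (nat_lit 241664) (nat_lit 2048)) (nat_lit 0) = true := by decide +kernel
theorem c243712 : Nat.beq (rng f2 (nat_lit 243712) (nat_lit 2048)) (nat_lit 0) = true := by decide +kernel
theorem c245760 : Nat.beq (rng f2 (nat_lit 245760) (nat_lit 2048)) (nat_lit 0) = true := by decide +kernel
theorem c247808 : Nat.beq (rng f2 (nat_lit 247808) (nat_lit 2048)) (nat_lit 0) = true := by decide +kernel

end Cfsg.Agent.Ct.Co2o
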