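import Cfsg.Agent.Lib.Cert.Co2o.D

set_option autoImplicit false
set_option maxRecDepth 100000

namespace Cfsg.Agent.Ct.Co2o

open Cfsg.Agent.PC

open Cfsg.Agent.Fi Cfsg.Agent.Ct
theorem c249856 : Nat.beq (rng f2 (nat_lit 249856) (nat_lit 2048)) (nat_lit 0) = true := by decide +kernel
theorem c251904 : Nat.beq (rng f2 (nat_lit 251904) (nat_lit 2048)) (nat_lit 0) = true := by decide +kernel
theorem c253952 : Nat.beq (rng f2 (nat_lit 253952) (nat_lit 2048)) (nat_lit 0) = true := by decide +kernel
theorem c256000 : Nat.beq (rng f2 (nat_lit 256000) (nat_lit 2048)) (nat_lit 0) = true := by decide +kernel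
theorem c258048 : Nat.beq (rng f2 (nat_lit 258048) (nat_lit 2048)) (nat_lit 0) = true := by decide +kernel
theorem c260096 : Nat.beq (rng f2 (nat_lit 260096) (nat_lit 2048)) (nat_lit 0) = true := by decide +kernel
theorem e0 : Nat.beq (rng f4 (nat_lit 0) (nat_lit 798)) (nat_lit 0) = true := by decide +kernel
theorem e798 : Nat.beq (rng f4 (nat_lit 798) (nat_lit 798)) (nat_lit 0) = true := by decide +kernel

end Cfsg.Agent.Ct.Co2o
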