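import Cfsg.Agent.Lib.Cert.Co2o.D

set_option autoImplicit false
set_option maxRecDepth 100000

namespace Cfsg.Agent.Ct.Co2o

open Cfsg.Agent.PC

open Cfsg.Agent.Fi Cfsg.Agent.Ct
theorem e1596 : Nat.beq (rng f4 (nat_lit 1596) (nat_lit 798)) (nat_lit 0) = true := by decide +kernel
theorem e2394 : Nat.beq (rng f4 (nat_lit 2394) (nat_lit 798)) (nat_lit 0) = true := by decide +kernel
theorem e3192 : Nat.beq (rng f4 (nat_lit 3192) (nat_lit 798)) (nat_lit 0) = true := by decide +kernel
theorem e3990 : Nat.beq (rng f4 (nat_lit 3990) (nat_lit 610)) (nat_lit 0) = true := by decide +kernel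
theorem d0 : Nat.beq (rng f3 (nat_lit 0) (nat_lit 2000)) (nat_lit 0) = true := by decide +kernel
theorem d2000 : Nat.beq (rng f3 (nat_lit 2000) (nat_lit 2000)) (nat_lit 0) = true := by decide +kernel
theorem d4000 : Nat.beq (rng f3 (nat_lit 4000) (nat_lit 2000)) (nat_lit 0) = true := by decide +kernel
theorem d6000 : Nat.beq (rng f3 (nat_lit 6000) (nat_lit 2000)) (nat_lit 0) = true := by decide +kernel

end Cfsg.Agent.Ct.Co2o
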