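import Cfsg.Agent.Lib.Cert.Co2o.D

set_option autoImplicit false
set_option maxRecDepth 100000

namespace Cfsg.Agent.Ct.Co2o

open Cfsg.Agent.PC

open Cfsg.Agent.Fi Cfsg.Agent.Ct
theorem a3768 : Nat.beq (rng f0 (nat_lit 3768) (nat_lit 157)) (nat_lit 0) = true := by decide +kernel
theorem a3925 : Nat.beq (rng f0 (nat_lit 3925) (nat_lit 157)) (nat_lit 0) = true := by decide +kernel
theorem a4082 : Nat.beq (rng f0 (nat_lit 4082) (nat_lit 157)) (nat_lit 0) = true := by decide +kernel
theorem a4239 : Nat.beq (rng f0 (nat_lit 4239) (nat_lit 157)) (nat_lit 0) = true := by decide +kernel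
theorem a4396 : Nat.beq (rng f0 (nat_lit 4396) (nat_lit 157)) (nat_lit 0) = true := by decide +kernel
theorem a4553 : Nat.beq (rng f0 (nat_lit 4553) (nat_lit 47)) (nat_lit 0) = true := by decide +kernel
theorem b0 : Nat.beq (rng f1 (nat_lit 0) (nat_lit 4096)) (nat_lit 0) = true := by decide +kernel
theorem b4096 : Nat.beq (rng f1 (nat_lit 4096) (nat_lit 4096)) (nat_lit 0) = true := by decide +kernel

end Cfsg.Agent.Ct.Co2o
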