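import Cfsg.Agent.Lib.Cert.Co2o.D

set_option autoImplicit false
set_option maxRecDepth 100000

namespace Cfsg.Agent.Ct.Co2o

open Cfsg.Agent.PC

open Cfsg.Agent.Fi Cfsg.Agent.Ct
theorem d56000 : Nat.beq (rng f3 (nat_lit 56000) (nat_lit 924)) (nat_lit 0) = true := by decide +kernel
theorem v2x0 : Nat.beq (rng u2 (nat_lit 0) (nat_lit 2500)) (nat_lit 0) = true := by decide +kernel
theorem v2x2500 : Nat.beq (rng u2 (nat_lit 2500) (nat_lit 2500)) (nat_lit 0) = true := by decide +kernel
theorem v2x5000 : Nat.beq (rng u2 (nat_lit 5000) (nat_lit 2500)) (nat_lit 0) = true := by decide +kernel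
theorem v2x7500 : Nat.beq (rng u2 (nat_lit 7500) (nat_lit 2500)) (nat_lit 0) = true := by decide +kernel
theorem v2x10000 : Nat.beq (rng u2 (nat_lit 10000) (nat_lit 2500)) (nat_lit 0) = true := by decide +kernel
theorem v2x12500 : Nat.beq (rng u2 (nat_lit 12500) (nat_lit 2500)) (nat_lit 0) = true := by decide +kernel
theorem v2x15000 : Nat.beq (rng u2 (nat_lit 15000) (nat_lit 2500)) (nat_lit 0) = true := by decide +kernel

end Cfsg.Agent.Ct.Co2o
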