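import Cfsg.Agent.Lib.Cert.Co2o.D

set_option autoImplicit false
set_option maxRecDepth 100000

namespace Cfsg.Agent.Ct.Co2o

open Cfsg.Agent.PC

open Cfsg.Agent.Fi Cfsg.Agent.Ct
theorem v2x17500 : Nat.beq (rng u2 (nat_lit 17500) (nat_lit 2500)) (nat_lit 0) = true := by decide +kernel
theorem v2x20000 : Nat.beq (rng u2 (nat_lit 20000) (nat_lit 2500)) (nat_lit 0) = true := by decide +kernel
theorem v2x22500 : Nat.beq (rng u2 (nat_lit 22500) (nat_lit 2500)) (nat_lit 0) = true := by decide +kernel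
theorem v2x25000 : Nat.beq (rng u2 (nat_lit 25000) (nat_lit 2500)) (nat_lit 0) = true := by decide +kernel
theorem v2x27500 : Nat.beq (rng u2 (nat_lit 27500) (nat_lit 2500)) (nat_lit 0) = true := by decide +kernel
theorem v2x30000 : Nat.beq (rng u2 (nat_lit 30000) (nat_lit 2500)) (nat_lit 0) = true := by decide +kernel
theorem v2x32500 : Nat.beq (rng u2 (nat_lit 32500) (nat_lit 2500)) (nat_lit 0) = true := by decide +kernel
theorem v2x35000 : Nat.beq (rng u2 (nat_lit 35000) (nat_lit 2500)) (nat_lit 0) = true := by decide +kernel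

end Cfsg.Agent.Ct.Co2o
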