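import Cfsg.Agent.Lib.Cert.Co2o.D

set_option autoImplicit false
set_option maxRecDepth 100000

namespace Cfsg.Agent.Ct.Co2o

open Cfsg.Agent.PC

open Cfsg.Agent.Fi Cfsg.Agent.Ct
theorem b40960 : Nat.beq (rng f1 (nat_lit 40960) (nat_lit 4096)) (nat_lit 0) = true := by decide +kernel
theorem b45056 : Nat.beq (rng f1 (nat_lit 45056) (nat_lit 4096)) (nat_lit 0) = true := by decide +kernel
theorem b49152 : Nat.beq (rng f1 (nat_lit 49152) (nat_lit 4096)) (nat_lit 0) = true := by decide +kernel
theorem b53248 : Nat.beq (rng f1 (nat_lit 53248) (nat_lit 4096)) (nat_lit 0) = true := by decide +kernel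
theorem b57344 : Nat.beq (rng f1 (nat_lit 57344) (nat_lit 4096)) (nat_lit 0) = true := by decide +kernel
theorem b61440 : Nat.beq (rng f1 (nat_lit 61440) (nat_lit 4096)) (nat_lit 0) = true := by decide +kernel
theorem b65536 : Nat.beq (rng f1 (nat_lit 65536) (nat_lit 4096)) (nat_lit 0) = true := by decide +kernel
theorem b69632 : Nat.beq (rng f1 (nat_lit 69632) (nat_lit 4096)) (nat_lit 0) = true := by decide +kernel

end Cfsg.Agent.Ct.Co2o
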