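import Cfsg.Agent.Lib.Cert.Co2o.D

set_option autoImplicit false
set_option maxRecDepth 100000

namespace Cfsg.Agent.Ct.Co2o

open Cfsg.Agent.PC

open Cfsg.Agent.Fi Cfsg.Agent.Ct
theorem b73728 : Nat.beq (rng f1 (nat_lit 73728) (nat_lit 4096)) (nat_lit 0) = true := by decide +kernel
theorem b77824 : Nat.beq (rng f1 (nat_lit 77824) (nat_lit 4096)) (nat_lit 0) = true := by decide +kernel
theorem b81920 : Nat.beq (rng f1 (nat_lit 81920) (nat_lit 4096)) (nat_lit 0) = true := by decide +kernel
theorem b86016 : Nat.beq (rng f1 (nat_lit 86016) (nat_lit 4096)) (nat_lit 0) = true := by decide +kernel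
theorem b90112 : Nat.beq (rng f1 (nat_lit 90112) (nat_lit 4096)) (nat_lit 0) = true := by decide +kernel
theorem b94208 : Nat.beq (rng f1 (nat_lit 94208) (nat_lit 4096)) (nat_lit 0) = true := by decide +kernel
theorem b98304 : Nat.beq (rng f1 (nat_lit 98304) (nat_lit 4096)) (nat_lit 0) = true := by decide +kernel
theorem b102400 : Nat.beq (rng f1 (nat_lit 102400) (nat_lit 4096)) (nat_lit 0) = true := by decide +kernel

end Cfsg.Agent.Ct.Co2o
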