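import Cfsg.Agent.Lib.Cert.Co2o.D

set_option autoImplicit false
set_option maxRecDepth 100000

namespace Cfsg.Agent.Ct.Co2o

open Cfsg.Agent.PC

open Cfsg.Agent.Fi Cfsg.Agent.Ct
theorem b106496 : Nat.beq (rng f1 (nat_lit 106496) (nat_lit 4096)) (nat_lit 0) = true := by decide +kernel
theorem b110592 : Nat.beq (rng f1 (nat_lit 110592) (nat_lit 4096)) (nat_lit 0) = true := by decide +kernel
theorem b114688 : Nat.beq (rng f1 (nat_lit 114688) (nat_lit 4096)) (nat_lit 0) = true := by decide +kernel
theorem b118784 : Nat.beq (rng f1 (nat_lit 118784) (nat_lit 4096)) (nat_lit 0) = true := by decide +kernel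
theorem b122880 : Nat.beq (rng f1 (nat_lit 122880) (nat_lit 4096)) (nat_lit 0) = true := by decide +kernel
theorem b126976 : Nat.beq (rng f1 (nat_lit 126976) (nat_lit 4096)) (nat_lit 0) = true := by decide +kernel
theorem b131072 : Nat.beq (rng f1 (nat_lit 131072) (nat_lit 4096)) (nat_lit 0) = true := by decide +kernel
theorem b135168 : Nat.beq (rng f1 (nat_lit 135168) (nat_lit 4096)) (nat_lit 0) = true := by decide +kernel

end Cfsg.Agent.Ct.Co2o
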