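import Cfsg.Agent.Lib.Cert.Co2o.D

set_option autoImplicit false
set_option maxRecDepth 100000

namespace Cfsg.Agent.Ct.Co2o

open Cfsg.Agent.PC

open Cfsg.Agent.Fi Cfsg.Agent.Ct
theorem b139264 : Nat.beq (rng f1 (nat_lit 139264) (nat_lit 4096)) (nat_lit 0) = true := by decide +kernel
theorem b143360 : Nat.beq (rng f1 (nat_lit 143360) (nat_lit 4096)) (nat_lit 0) = true := by decide +kernel
theorem b147456 : Nat.beq (rng f1 (nat_lit 147456) (nat_lit 4096)) (nat_lit 0) = true := by decide +kernel
theorem b151552 : Nat.beq (rng f1 (nat_lit 151552) (nat_lit 4096)) (nat_lit 0) = true := by decide +kernel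
theorem b155648 : Nat.beq (rng f1 (nat_lit 155648) (nat_lit 4096)) (nat_lit 0) = true := by decide +kernel
theorem b159744 : Nat.beq (rng f1 (nat_lit 159744) (nat_lit 4096)) (nat_lit 0) = true := by decide +kernel
theorem b163840 : Nat.beq (rng f1 (nat_lit 163840) (nat_lit 4096)) (nat_lit 0) = true := by decide +kernel
theorem b167936 : Nat.beq (rng f1 (nat_lit 167936) (nat_lit 4096)) (nat_lit 0) = true := by decide +kernel

end Cfsg.Agent.Ct.Co2o
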