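import Cfsg.Agent.Lib.Cert.Co2o.D

set_option autoImplicit false
set_option maxRecDepth 100000

namespace Cfsg.Agent.Ct.Co2o

open Cfsg.Agent.PC

open Cfsg.Agent.Fi Cfsg.Agent.Ct
theorem b172032 : Nat.beq (rng f1 (nat_lit 172032) (nat_lit 4096)) (nat_lit 0) = true := by decide +kernel
theorem b176128 : Nat.beq (rng f1 (nat_lit 176128) (nat_lit 4096)) (nat_lit 0) = true := by decide +kernel
theorem b180224 : Nat.beq (rng f1 (nat_lit 180224) (nat_lit 4096)) (nat_lit 0) = true := by decide +kernel
theorem b184320 : Nat.beq (rng f1 (nat_lit 184320) (nat_lit 4096)) (nat_lit 0) = true := by decide +kernel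
theorem b188416 : Nat.beq (rng f1 (nat_lit 188416) (nat_lit 4096)) (nat_lit 0) = true := by decide +kernel
theorem b192512 : Nat.beq (rng f1 (nat_lit 192512) (nat_lit 4096)) (nat_lit 0) = true := by decide +kernel
theorem b196608 : Nat.beq (rng f1 (nat_lit 196608) (nat_lit 4096)) (nat_lit 0) = true := by decide +kernel
theorem b200704 : Nat.beq (rng f1 (nat_lit 200704) (nat_lit 4096)) (nat_lit 0) = true := by decide +kernel

end Cfsg.Agent.Ct.Co2o
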