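import Cfsg.Agent.Lib.Cert.Co2o.U0
import Cfsg.Agent.Lib.Cert.Co2o.U1
import Cfsg.Agent.Lib.Cert.Co2o.U2
import Cfsg.Agent.Lib.Cert.Co2o.U3
import Cfsg.Agent.Lib.Cert.Co2o.U4
import Cfsg.Agent.Lib.Cert.Co2o.U5
import Cfsg.Agent.Lib.Cert.Co2o.U6
import Cfsg.Agent.Lib.Cert.Co2o.U7
import Cfsg.Agent.Lib.Cert.Co2o.U8
import Cfsg.Agent.Lib.Cert.Co2o.U9
import Cfsg.Agent.Lib.Cert.Co2o.U10
import Cfsg.Agent.Lib.Cert.Co2o.U11
import Cfsg.Agent.Lib.Cert.Co2o.U12
import Cfsg.Agent.Lib.Cert.Co2o.U13
import Cfsg.Agent.Lib.Cert.Co2o.U14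
import Cfsg.Agent.Lib.Cert.Co2o.U15
import Cfsg.Agent.Lib.Cert.Co2o.U16
import Cfsg.Agent.Lib.Cert.Co2o.U17
import Cfsg.Agent.Lib.Cert.Co2o.U18
import Cfsg.Agent.Lib.Cert.Co2o.U19
import Cfsg.Agent.Lib.Cert.Co2o.U20
import Cfsg.Agent.Lib.Cert.Co2o.U21
import Cfsg.Agent.Lib.Cert.Co2o.U22
import Cfsg.Agent.Lib.Cert.Co2o.U23
import Cfsg.Agent.Lib.Cert.Co2o.U24
import Cfsg.Agent.Lib.Cert.Co2o.U25
import Cfsg.Agent.Lib.Cert.Co2o.U26
import Cfsg.Agent.Lib.Cert.Co2o.U27
import Cfsg.Agent.Lib.Cert.Co2o.U28
import Cfsg.Agent.Lib.Cert.Co2o.U29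
import Cfsg.Agent.Lib.Cert.Co2o.U30
import Cfsg.Agent.Lib.Cert.Co2o.U31
import Cfsg.Agent.Lib.Cert.Co2o.U32
import Cfsg.Agent.Lib.Cert.Co2o.U33
import Cfsg.Agent.Lib.Cert.Co2o.U34
import Cfsg.Agent.Lib.Cert.Co2o.U35
import Cfsg.Agent.Lib.Cert.Co2o.U36
import Cfsg.Agent.Lib.Cert.Co2o.U37
import Cfsg.Agent.Lib.Cert.Co2o.U38
import Cfsg.Agent.Lib.Cert.Co2o.U39
import Cfsg.Agent.Lib.Cert.Co2o.U40

set_option autoImplicit false
set_option maxRecDepth 100000

namespace Cfsg.Agent.Ct.Co2o

open Cfsg.Agent.PC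

open Cfsg.Agent.Fi Cfsg.Agent.Ct
theorem h0 : ∀ i < 4600, f0 i = 0 := by
  have h := zero_lt_zero f0
  have h := zero_lt_add (a := (nat_lit 0)) (n := (nat_lit 157)) (b := (nat_lit 157)) h a0 rfl
  have h := zero_lt_add (a := (nat_lit 157)) (n := (nat_lit 157)) (b := (nat_lit 314)) h a157 rfl
  have h := zero_lt_add (a := (nat_lit 314)) (n := (nat_lit 157)) (b := (nat_lit 471)) h a314 rfl
  have h := zero_lt_add (a := (nat_lit 471)) (n := (nat_lit 157)) (b := (nat_lit 628)) h a471 rfl
  have h := zero_lt_add (a := (nat_lit 628)) (n := (nat_lit 157)) (b := (nat_lit 785)) h a628 rfl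
  have h := zero_lt_add (a := (nat_lit 785)) (n := (nat_lit 157)) (b := (nat_lit 942)) h a785 rfl
  have h := zero_lt_add (a := (nat_lit 942)) (n := (nat_lit 157)) (b := (nat_lit 1099)) h a942 rfl
  have h := zero_lt_add (a := (nat_lit 1099)) (n := (nat_lit 157)) (b := (nat_lit 1256)) h a1099 rfl
  have h := zero_lt_add (a := (nat_lit 1256)) (n := (nat_lit 157)) (b := (nat_lit 1413)) h a1256 rfl
  have h := zero_lt_add (a := (nat_lit 1413)) (n := (nat_lit 157)) (b := (nat_lit 1570)) h a1413 rfl
  have h := zero_lt_add (a := (nat_lit 1570)) (n := (nat_lit 157)) (b := (nat_lit 1727)) h a1570 rfl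
  have h := zero_lt_add (a := (nat_lit 1727)) (n := (nat_lit 157)) (b := (nat_lit 1884)) h a1727 rfl
  have h := zero_lt_add (a := (nat_lit 1884)) (n := (nat_lit 157)) (b := (nat_lit 2041)) h a1884 rfl
  have h := zero_lt_add (a := (nat_lit 2041)) (n := (nat_lit 157)) (b := (nat_lit 2198)) h a2041 rfl
  have h := zero_lt_add (a := (nat_lit 2198)) (n := (nat_lit 157)) (b := (nat_lit 2355)) h a2198 rfl
  have h := zero_lt_add (a := (nat_lit 2355)) (n := (nat_lit 157)) (b := (nat_lit 2512)) h a2355 rfl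
  have h := zero_lt_add (a := (nat_lit 2512)) (n := (nat_lit 157)) (b := (nat_lit 2669)) h a2512 rfl
  have h := zero_lt_add (a := (nat_lit 2669)) (n := (nat_lit 157)) (b := (nat_lit 2826)) h a2669 rfl
  have h := zero_lt_add (a := (nat_lit 2826)) (n := (nat_lit 157)) (b := (nat_lit 2983)) h a2826 rfl
  have h := zero_lt_add (a := (nat_lit 2983)) (n := (nat_lit 157)) (b := (nat_lit 3140)) h a2983 rfl
  have h := zero_lt_add (a := (nat_lit 3140)) (n := (nat_lit 157)) (b := (nat_lit 3297)) h a3140 rfl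
  have h := zero_lt_add (a := (nat_lit 3297)) (n := (nat_lit 157)) (b := (nat_lit 3454)) h a3297 rfl
  have h := zero_lt_add (a := (nat_lit 3454)) (n := (nat_lit 157)) (b := (nat_lit 3611)) h a3454 rfl
  have h := zero_lt_add (a := (nat_lit 3611)) (n := (nat_lit 157)) (b := (nat_lit 3768)) h a3611 rfl
  have h := zero_lt_add (a := (nat_lit 3768)) (n := (nat_lit 157)) (b := (nat_lit 3925)) h a3768 rfl
  have h := zero_lt_add (a := (nat_lit 3925)) (n := (nat_lit 157)) (b := (nat_lit 4082)) h a3925 rfl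
  have h := zero_lt_add (a := (nat_lit 4082)) (n := (nat_lit 157)) (b := (nat_lit 4239)) h a4082 rfl
  have h := zero_lt_add (a := (nat_lit 4239)) (n := (nat_lit 157)) (b := (nat_lit 4396)) h a4239 rfl
  have h := zero_lt_add (a := (nat_lit 4396)) (n := (nat_lit 157)) (b := (nat_lit 4553)) h a4396 rfl
  have h := zero_lt_add (a := (nat_lit 4553)) (n := (nat_lit 47)) (b := (nat_lit 4600)) h a4553 rfl
  exact h
theorem md : Md Co2.pt 4600 B q Q 25 := (Co2.md0).words (by decide +kernel) h0
theorem h1 : ∀ i < 262144, f1 i = 0 := by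
  have h := zero_lt_zero f1
  have h := zero_lt_add (a := (nat_lit 0)) (n := (nat_lit 4096)) (b := (nat_lit 4096)) h b0 rfl
  have h := zero_lt_add (a := (nat_lit 4096)) (n := (nat_lit 4096)) (b := (nat_lit 8192)) h b4096 rfl
  have h := zero_lt_add (a := (nat_lit 8192)) (n := (nat_lit 4096)) (b := (nat_lit 12288)) h b8192 rfl
  have h := zero_lt_add (a := (nat_lit 12288)) (n := (nat_lit 4096)) (b := (nat_lit 16384)) h b12288 rfl
  have h := zero_lt_add (a := (nat_lit 16384)) (n := (nat_lit 4096)) (b := (nat_lit 20480)) h b16384 rfl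
  have h := zero_lt_add (a := (nat_lit 20480)) (n := (nat_lit 4096)) (b := (nat_lit 24576)) h b20480 rfl
  have h := zero_lt_add (a := (nat_lit 24576)) (n := (nat_lit 4096)) (b := (nat_lit 28672)) h b24576 rfl
  have h := zero_lt_add (a := (nat_lit 28672)) (n := (nat_lit 4096)) (b := (nat_lit 32768)) h b28672 rfl
  have h := zero_lt_add (a := (nat_lit 32768)) (n := (nat_lit 4096)) (b := (nat_lit 36864)) h b32768 rfl
  have h := zero_lt_add (a := (nat_lit 36864)) (n := (nat_lit 4096)) (b := (nat_lit 40960)) h b36864 rfl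
  have h := zero_lt_add (a := (nat_lit 40960)) (n := (nat_lit 4096)) (b := (nat_lit 45056)) h b40960 rfl
  have h := zero_lt_add (a := (nat_lit 45056)) (n := (nat_lit 4096)) (b := (nat_lit 49152)) h b45056 rfl
  have h := zero_lt_add (a := (nat_lit 49152)) (n := (nat_lit 4096)) (b := (nat_lit 53248)) h b49152 rfl
  have h := zero_lt_add (a := (nat_lit 53248)) (n := (nat_lit 4096)) (b := (nat_lit 57344)) h b53248 rfl
  have h := zero_lt_add (a := (nat_lit 57344)) (n := (nat_lit 4096)) (b := (nat_lit 61440)) h b57344 rfl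
  have h := zero_lt_add (a := (nat_lit 61440)) (n := (nat_lit 4096)) (b := (nat_lit 65536)) h b61440 rfl
  have h := zero_lt_add (a := (nat_lit 65536)) (n := (nat_lit 4096)) (b := (nat_lit 69632)) h b65536 rfl
  have h := zero_lt_add (a := (nat_lit 69632)) (n := (nat_lit 4096)) (b := (nat_lit 73728)) h b69632 rfl
  have h := zero_lt_add (a := (nat_lit 73728)) (n := (nat_lit 4096)) (b := (nat_lit 77824)) h b73728 rfl
  have h := zero_lt_add (a := (nat_lit 77824)) (n := (nat_lit 4096)) (b := (nat_lit 81920)) h b77824 rfl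
  have h := zero_lt_add (a := (nat_lit 81920)) (n := (nat_lit 4096)) (b := (nat_lit 86016)) h b81920 rfl
  have h := zero_lt_add (a := (nat_lit 86016)) (n := (nat_lit 4096)) (b := (nat_lit 90112)) h b86016 rfl
  have h := zero_lt_add (a := (nat_lit 90112)) (n := (nat_lit 4096)) (b := (nat_lit 94208)) h b90112 rfl
  have h := zero_lt_add (a := (nat_lit 94208)) (n := (nat_lit 4096)) (b := (nat_lit 98304)) h b94208 rfl
  have h := zero_lt_add (a := (nat_lit 98304)) (n := (nat_lit 4096)) (b := (nat_lit 102400)) h b98304 rfl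
  have h := zero_lt_add (a := (nat_lit 102400)) (n := (nat_lit 4096)) (b := (nat_lit 106496)) h b102400 rfl
  have h := zero_lt_add (a := (nat_lit 106496)) (n := (nat_lit 4096)) (b := (nat_lit 110592)) h b106496 rfl
  have h := zero_lt_add (a := (nat_lit 110592)) (n := (nat_lit 4096)) (b := (nat_lit 114688)) h b110592 rfl
  have h := zero_lt_add (a := (nat_lit 114688)) (n := (nat_lit 4096)) (b := (nat_lit 118784)) h b114688 rfl
  have h := zero_lt_add (a := (nat_lit 118784)) (n := (nat_lit 4096)) (b := (nat_lit 122880)) h b118784 rfl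
  have h := zero_lt_add (a := (nat_lit 122880)) (n := (nat_lit 4096)) (b := (nat_lit 126976)) h b122880 rfl
  have h := zero_lt_add (a := (nat_lit 126976)) (n := (nat_lit 4096)) (b := (nat_lit 131072)) h b126976 rfl
  have h := zero_lt_add (a := (nat_lit 131072)) (n := (nat_lit 4096)) (b := (nat_lit 135168)) h b131072 rfl
  have h := zero_lt_add (a := (nat_lit 135168)) (n := (nat_lit 4096)) (b := (nat_lit 139264)) h b135168 rfl
  have h := zero_lt_add (a := (nat_lit 139264)) (n := (nat_lit 4096)) (b := (nat_lit 143360)) h b139264 rfl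
  have h := zero_lt_add (a := (nat_lit 143360)) (n := (nat_lit 4096)) (b := (nat_lit 147456)) h b143360 rfl
  have h := zero_lt_add (a := (nat_lit 147456)) (n := (nat_lit 4096)) (b := (nat_lit 151552)) h b147456 rfl
  have h := zero_lt_add (a := (nat_lit 151552)) (n := (nat_lit 4096)) (b := (nat_lit 155648)) h b151552 rfl
  have h := zero_lt_add (a := (nat_lit 155648)) (n := (nat_lit 4096)) (b := (nat_lit 159744)) h b155648 rfl
  have h := zero_lt_add (a := (nat_lit 159744)) (n := (nat_lit 4096)) (b := (nat_lit 163840)) h b159744 rfl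
  have h := zero_lt_add (a := (nat_lit 163840)) (n := (nat_lit 4096)) (b := (nat_lit 167936)) h b163840 rfl
  have h := zero_lt_add (a := (nat_lit 167936)) (n := (nat_lit 4096)) (b := (nat_lit 172032)) h b167936 rfl
  have h := zero_lt_add (a := (nat_lit 172032)) (n := (nat_lit 4096)) (b := (nat_lit 176128)) h b172032 rfl
  have h := zero_lt_add (a := (nat_lit 176128)) (n := (nat_lit 4096)) (b := (nat_lit 180224)) h b176128 rfl
  have h := zero_lt_add (a := (nat_lit 180224)) (n := (nat_lit 4096)) (b := (nat_lit 184320)) h b180224 rfl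
  have h := zero_lt_add (a := (nat_lit 184320)) (n := (nat_lit 4096)) (b := (nat_lit 188416)) h b184320 rfl
  have h := zero_lt_add (a := (nat_lit 188416)) (n := (nat_lit 4096)) (b := (nat_lit 192512)) h b188416 rfl
  have h := zero_lt_add (a := (nat_lit 192512)) (n := (nat_lit 4096)) (b := (nat_lit 196608)) h b192512 rfl
  have h := zero_lt_add (a := (nat_lit 196608)) (n := (nat_lit 4096)) (b := (nat_lit 200704)) h b196608 rfl
  have h := zero_lt_add (a := (nat_lit 200704)) (n := (nat_lit 4096)) (b := (nat_lit 204800)) h b200704 rfl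
  have h := zero_lt_add (a := (nat_lit 204800)) (n := (nat_lit 4096)) (b := (nat_lit 208896)) h b204800 rfl
  have h := zero_lt_add (a := (nat_lit 208896)) (n := (nat_lit 4096)) (b := (nat_lit 212992)) h b208896 rfl
  have h := zero_lt_add (a := (nat_lit 212992)) (n := (nat_lit 4096)) (b := (nat_lit 217088)) h b212992 rfl
  have h := zero_lt_add (a := (nat_lit 217088)) (n := (nat_lit 4096)) (b := (nat_lit 221184)) h b217088 rfl
  have h := zero_lt_add (a := (nat_lit 221184)) (n := (nat_lit 4096)) (b := (nat_lit 225280)) h b221184 rfl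
  have h := zero_lt_add (a := (nat_lit 225280)) (n := (nat_lit 4096)) (b := (nat_lit 229376)) h b225280 rfl
  have h := zero_lt_add (a := (nat_lit 229376)) (n := (nat_lit 4096)) (b := (nat_lit 233472)) h b229376 rfl
  have h := zero_lt_add (a := (nat_lit 233472)) (n := (nat_lit 4096)) (b := (nat_lit 237568)) h b233472 rfl
  have h := zero_lt_add (a := (nat_lit 237568)) (n := (nat_lit 4096)) (b := (nat_lit 241664)) h b237568 rfl
  have h := zero_lt_add (a := (nat_lit 241664)) (n := (nat_lit 4096)) (b := (nat_lit 245760)) h b241664 rfl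
  have h := zero_lt_add (a := (nat_lit 245760)) (n := (nat_lit 4096)) (b := (nat_lit 249856)) h b245760 rfl
  have h := zero_lt_add (a := (nat_lit 249856)) (n := (nat_lit 4096)) (b := (nat_lit 253952)) h b249856 rfl
  have h := zero_lt_add (a := (nat_lit 253952)) (n := (nat_lit 4096)) (b := (nat_lit 258048)) h b253952 rfl
  have h := zero_lt_add (a := (nat_lit 258048)) (n := (nat_lit 4096)) (b := (nat_lit 262144)) h b258048 rfl
  exact h
theorem sy : Sy q 2 18 R := md.sy' (by decide) (by decide) (upTo_beq (by decide +kernel)) (pr := 262144) rfl h1 (by rw [Co2.card]; decide)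
theorem cs : clS Q B sg si (nat_lit 4600) (nat_lit 25) (nat_lit 0) [nat_lit 0, nat_lit 1, nat_lit 2, nat_lit 2131, nat_lit 2428] = 0 := by decide +kernel
theorem h2 : ∀ i < 262144, f2 i = 0 := by
  have h := zero_lt_zero f2
  have h := zero_lt_add (a := (nat_lit 0)) (n := (nat_lit 2048)) (b := (nat_lit 2048)) h c0 rfl
  have h := zero_lt_add (a := (nat_lit 2048)) (n := (nat_lit 2048)) (b := (nat_lit 4096)) h c2048 rfl
  have h := zero_lt_add (a := (nat_lit 4096)) (n := (nat_lit 2048)) (b := (nat_lit 6144)) h c4096 rfl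
  have h := zero_lt_add (a := (nat_lit 6144)) (n := (nat_lit 2048)) (b := (nat_lit 8192)) h c6144 rfl
  have h := zero_lt_add (a := (nat_lit 8192)) (n := (nat_lit 2048)) (b := (nat_lit 10240)) h c8192 rfl
  have h := zero_lt_add (a := (nat_lit 10240)) (n := (nat_lit 2048)) (b := (nat_lit 12288)) h c10240 rfl
  have h := zero_lt_add (a := (nat_lit 12288)) (n := (nat_lit 2048)) (b := (nat_lit 14336)) h c12288 rfl
  have h := zero_lt_add (a := (nat_lit 14336)) (n := (nat_lit 2048)) (b := (nat_lit 16384)) h c14336 rfl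
  have h := zero_lt_add (a := (nat_lit 16384)) (n := (nat_lit 2048)) (b := (nat_lit 18432)) h c16384 rfl
  have h := zero_lt_add (a := (nat_lit 18432)) (n := (nat_lit 2048)) (b := (nat_lit 20480)) h c18432 rfl
  have h := zero_lt_add (a := (nat_lit 20480)) (n := (nat_lit 2048)) (b := (nat_lit 22528)) h c20480 rfl
  have h := zero_lt_add (a := (nat_lit 22528)) (n := (nat_lit 2048)) (b := (nat_lit 24576)) h c22528 rfl
  have h := zero_lt_add (a := (nat_lit 24576)) (n := (nat_lit 2048)) (b := (nat_lit 26624)) h c24576 rfl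
  have h := zero_lt_add (a := (nat_lit 26624)) (n := (nat_lit 2048)) (b := (nat_lit 28672)) h c26624 rfl
  have h := zero_lt_add (a := (nat_lit 28672)) (n := (nat_lit 2048)) (b := (nat_lit 30720)) h c28672 rfl
  have h := zero_lt_add (a := (nat_lit 30720)) (n := (nat_lit 2048)) (b := (nat_lit 32768)) h c30720 rfl
  have h := zero_lt_add (a := (nat_lit 32768)) (n := (nat_lit 2048)) (b := (nat_lit 34816)) h c32768 rfl
  have h := zero_lt_add (a := (nat_lit 34816)) (n := (nat_lit 2048)) (b := (nat_lit 36864)) h c34816 rfl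
  have h := zero_lt_add (a := (nat_lit 36864)) (n := (nat_lit 2048)) (b := (nat_lit 38912)) h c36864 rfl
  have h := zero_lt_add (a := (nat_lit 38912)) (n := (nat_lit 2048)) (b := (nat_lit 40960)) h c38912 rfl
  have h := zero_lt_add (a := (nat_lit 40960)) (n := (nat_lit 2048)) (b := (nat_lit 43008)) h c40960 rfl
  have h := zero_lt_add (a := (nat_lit 43008)) (n := (nat_lit 2048)) (b := (nat_lit 45056)) h c43008 rfl
  have h := zero_lt_add (a := (nat_lit 45056)) (n := (nat_lit 2048)) (b := (nat_lit 47104)) h c45056 rfl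
  have h := zero_lt_add (a := (nat_lit 47104)) (n := (nat_lit 2048)) (b := (nat_lit 49152)) h c47104 rfl
  have h := zero_lt_add (a := (nat_lit 49152)) (n := (nat_lit 2048)) (b := (nat_lit 51200)) h c49152 rfl
  have h := zero_lt_add (a := (nat_lit 51200)) (n := (nat_lit 2048)) (b := (nat_lit 53248)) h c51200 rfl
  have h := zero_lt_add (a := (nat_lit 53248)) (n := (nat_lit 2048)) (b := (nat_lit 55296)) h c53248 rfl
  have h := zero_lt_add (a := (nat_lit 55296)) (n := (nat_lit 2048)) (b := (nat_lit 57344)) h c55296 rfl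
  have h := zero_lt_add (a := (nat_lit 57344)) (n := (nat_lit 2048)) (b := (nat_lit 59392)) h c57344 rfl
  have h := zero_lt_add (a := (nat_lit 59392)) (n := (nat_lit 2048)) (b := (nat_lit 61440)) h c59392 rfl
  have h := zero_lt_add (a := (nat_lit 61440)) (n := (nat_lit 2048)) (b := (nat_lit 63488)) h c61440 rfl
  have h := zero_lt_add (a := (nat_lit 63488)) (n := (nat_lit 2048)) (b := (nat_lit 65536)) h c63488 rfl
  have h := zero_lt_add (a := (nat_lit 65536)) (n := (nat_lit 2048)) (b := (nat_lit 67584)) h c65536 rfl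
  have h := zero_lt_add (a := (nat_lit 67584)) (n := (nat_lit 2048)) (b := (nat_lit 69632)) h c67584 rfl
  have h := zero_lt_add (a := (nat_lit 69632)) (n := (nat_lit 2048)) (b := (nat_lit 71680)) h c69632 rfl
  have h := zero_lt_add (a := (nat_lit 71680)) (n := (nat_lit 2048)) (b := (nat_lit 73728)) h c71680 rfl
  have h := zero_lt_add (a := (nat_lit 73728)) (n := (nat_lit 2048)) (b := (nat_lit 75776)) h c73728 rfl
  have h := zero_lt_add (a := (nat_lit 75776)) (n := (nat_lit 2048)) (b := (nat_lit 77824)) h c75776 rfl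
  have h := zero_lt_add (a := (nat_lit 77824)) (n := (nat_lit 2048)) (b := (nat_lit 79872)) h c77824 rfl
  have h := zero_lt_add (a := (nat_lit 79872)) (n := (nat_lit 2048)) (b := (nat_lit 81920)) h c79872 rfl
  have h := zero_lt_add (a := (nat_lit 81920)) (n := (nat_lit 2048)) (b := (nat_lit 83968)) h c81920 rfl
  have h := zero_lt_add (a := (nat_lit 83968)) (n := (nat_lit 2048)) (b := (nat_lit 86016)) h c83968 rfl
  have h := zero_lt_add (a := (nat_lit 86016)) (n := (nat_lit 2048)) (b := (nat_lit 88064)) h c86016 rfl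
  have h := zero_lt_add (a := (nat_lit 88064)) (n := (nat_lit 2048)) (b := (nat_lit 90112)) h c88064 rfl
  have h := zero_lt_add (a := (nat_lit 90112)) (n := (nat_lit 2048)) (b := (nat_lit 92160)) h c90112 rfl
  have h := zero_lt_add (a := (nat_lit 92160)) (n := (nat_lit 2048)) (b := (nat_lit 94208)) h c92160 rfl
  have h := zero_lt_add (a := (nat_lit 94208)) (n := (nat_lit 2048)) (b := (nat_lit 96256)) h c94208 rfl
  have h := zero_lt_add (a := (nat_lit 96256)) (n := (nat_lit 2048)) (b := (nat_lit 98304)) h c96256 rfl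
  have h := zero_lt_add (a := (nat_lit 98304)) (n := (nat_lit 2048)) (b := (nat_lit 100352)) h c98304 rfl
  have h := zero_lt_add (a := (nat_lit 100352)) (n := (nat_lit 2048)) (b := (nat_lit 102400)) h c100352 rfl
  have h := zero_lt_add (a := (nat_lit 102400)) (n := (nat_lit 2048)) (b := (nat_lit 104448)) h c102400 rfl
  have h := zero_lt_add (a := (nat_lit 104448)) (n := (nat_lit 2048)) (b := (nat_lit 106496)) h c104448 rfl
  have h := zero_lt_add (a := (nat_lit 106496)) (n := (nat_lit 2048)) (b := (nat_lit 108544)) h c106496 rfl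
  have h := zero_lt_add (a := (nat_lit 108544)) (n := (nat_lit 2048)) (b := (nat_lit 110592)) h c108544 rfl
  have h := zero_lt_add (a := (nat_lit 110592)) (n := (nat_lit 2048)) (b := (nat_lit 112640)) h c110592 rfl
  have h := zero_lt_add (a := (nat_lit 112640)) (n := (nat_lit 2048)) (b := (nat_lit 114688)) h c112640 rfl
  have h := zero_lt_add (a := (nat_lit 114688)) (n := (nat_lit 2048)) (b := (nat_lit 116736)) h c114688 rfl
  have h := zero_lt_add (a := (nat_lit 116736)) (n := (nat_lit 2048)) (b := (nat_lit 118784)) h c116736 rfl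
  have h := zero_lt_add (a := (nat_lit 118784)) (n := (nat_lit 2048)) (b := (nat_lit 120832)) h c118784 rfl
  have h := zero_lt_add (a := (nat_lit 120832)) (n := (nat_lit 2048)) (b := (nat_lit 122880)) h c120832 rfl
  have h := zero_lt_add (a := (nat_lit 122880)) (n := (nat_lit 2048)) (b := (nat_lit 124928)) h c122880 rfl
  have h := zero_lt_add (a := (nat_lit 124928)) (n := (nat_lit 2048)) (b := (nat_lit 126976)) h c124928 rfl
  have h := zero_lt_add (a := (nat_lit 126976)) (n := (nat_lit 2048)) (b := (nat_lit 129024)) h c126976 rfl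
  have h := zero_lt_add (a := (nat_lit 129024)) (n := (nat_lit 2048)) (b := (nat_lit 131072)) h c129024 rfl
  have h := zero_lt_add (a := (nat_lit 131072)) (n := (nat_lit 2048)) (b := (nat_lit 133120)) h c131072 rfl
  have h := zero_lt_add (a := (nat_lit 133120)) (n := (nat_lit 2048)) (b := (nat_lit 135168)) h c133120 rfl
  have h := zero_lt_add (a := (nat_lit 135168)) (n := (nat_lit 2048)) (b := (nat_lit 137216)) h c135168 rfl
  have h := zero_lt_add (a := (nat_lit 137216)) (n := (nat_lit 2048)) (b := (nat_lit 139264)) h c137216 rfl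
  have h := zero_lt_add (a := (nat_lit 139264)) (n := (nat_lit 2048)) (b := (nat_lit 141312)) h c139264 rfl
  have h := zero_lt_add (a := (nat_lit 141312)) (n := (nat_lit 2048)) (b := (nat_lit 143360)) h c141312 rfl
  have h := zero_lt_add (a := (nat_lit 143360)) (n := (nat_lit 2048)) (b := (nat_lit 145408)) h c143360 rfl
  have h := zero_lt_add (a := (nat_lit 145408)) (n := (nat_lit 2048)) (b := (nat_lit 147456)) h c145408 rfl
  have h := zero_lt_add (a := (nat_lit 147456)) (n := (nat_lit 2048)) (b := (nat_lit 149504)) h c147456 rfl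
  have h := zero_lt_add (a := (nat_lit 149504)) (n := (nat_lit 2048)) (b := (nat_lit 151552)) h c149504 rfl
  have h := zero_lt_add (a := (nat_lit 151552)) (n := (nat_lit 2048)) (b := (nat_lit 153600)) h c151552 rfl
  have h := zero_lt_add (a := (nat_lit 153600)) (n := (nat_lit 2048)) (b := (nat_lit 155648)) h c153600 rfl
  have h := zero_lt_add (a := (nat_lit 155648)) (n := (nat_lit 2048)) (b := (nat_lit 157696)) h c155648 rfl
  have h := zero_lt_add (a := (nat_lit 157696)) (n := (nat_lit 2048)) (b := (nat_lit 159744)) h c157696 rfl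
  have h := zero_lt_add (a := (nat_lit 159744)) (n := (nat_lit 2048)) (b := (nat_lit 161792)) h c159744 rfl
  have h := zero_lt_add (a := (nat_lit 161792)) (n := (nat_lit 2048)) (b := (nat_lit 163840)) h c161792 rfl
  have h := zero_lt_add (a := (nat_lit 163840)) (n := (nat_lit 2048)) (b := (nat_lit 165888)) h c163840 rfl
  have h := zero_lt_add (a := (nat_lit 165888)) (n := (nat_lit 2048)) (b := (nat_lit 167936)) h c165888 rfl
  have h := zero_lt_add (a := (nat_lit 167936)) (n := (nat_lit 2048)) (b := (nat_lit 169984)) h c167936 rfl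
  have h := zero_lt_add (a := (nat_lit 169984)) (n := (nat_lit 2048)) (b := (nat_lit 172032)) h c169984 rfl
  have h := zero_lt_add (a := (nat_lit 172032)) (n := (nat_lit 2048)) (b := (nat_lit 174080)) h c172032 rfl
  have h := zero_lt_add (a := (nat_lit 174080)) (n := (nat_lit 2048)) (b := (nat_lit 176128)) h c174080 rfl
  have h := zero_lt_add (a := (nat_lit 176128)) (n := (nat_lit 2048)) (b := (nat_lit 178176)) h c176128 rfl
  have h := zero_lt_add (a := (nat_lit 178176)) (n := (nat_lit 2048)) (b := (nat_lit 180224)) h c178176 rfl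
  have h := zero_lt_add (a := (nat_lit 180224)) (n := (nat_lit 2048)) (b := (nat_lit 182272)) h c180224 rfl
  have h := zero_lt_add (a := (nat_lit 182272)) (n := (nat_lit 2048)) (b := (nat_lit 184320)) h c182272 rfl
  have h := zero_lt_add (a := (nat_lit 184320)) (n := (nat_lit 2048)) (b := (nat_lit 186368)) h c184320 rfl
  have h := zero_lt_add (a := (nat_lit 186368)) (n := (nat_lit 2048)) (b := (nat_lit 188416)) h c186368 rfl
  have h := zero_lt_add (a := (nat_lit 188416)) (n := (nat_lit 2048)) (b := (nat_lit 190464)) h c188416 rfl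
  have h := zero_lt_add (a := (nat_lit 190464)) (n := (nat_lit 2048)) (b := (nat_lit 192512)) h c190464 rfl
  have h := zero_lt_add (a := (nat_lit 192512)) (n := (nat_lit 2048)) (b := (nat_lit 194560)) h c192512 rfl
  have h := zero_lt_add (a := (nat_lit 194560)) (n := (nat_lit 2048)) (b := (nat_lit 196608)) h c194560 rfl
  have h := zero_lt_add (a := (nat_lit 196608)) (n := (nat_lit 2048)) (b := (nat_lit 198656)) h c196608 rfl
  have h := zero_lt_add (a := (nat_lit 198656)) (n := (nat_lit 2048)) (b := (nat_lit 200704)) h c198656 rfl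
  have h := zero_lt_add (a := (nat_lit 200704)) (n := (nat_lit 2048)) (b := (nat_lit 202752)) h c200704 rfl
  have h := zero_lt_add (a := (nat_lit 202752)) (n := (nat_lit 2048)) (b := (nat_lit 204800)) h c202752 rfl
  have h := zero_lt_add (a := (nat_lit 204800)) (n := (nat_lit 2048)) (b := (nat_lit 206848)) h c204800 rfl
  have h := zero_lt_add (a := (nat_lit 206848)) (n := (nat_lit 2048)) (b := (nat_lit 208896)) h c206848 rfl
  have h := zero_lt_add (a := (nat_lit 208896)) (n := (nat_lit 2048)) (b := (nat_lit 210944)) h c208896 rfl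
  have h := zero_lt_add (a := (nat_lit 210944)) (n := (nat_lit 2048)) (b := (nat_lit 212992)) h c210944 rfl
  have h := zero_lt_add (a := (nat_lit 212992)) (n := (nat_lit 2048)) (b := (nat_lit 215040)) h c212992 rfl
  have h := zero_lt_add (a := (nat_lit 215040)) (n := (nat_lit 2048)) (b := (nat_lit 217088)) h c215040 rfl
  have h := zero_lt_add (a := (nat_lit 217088)) (n := (nat_lit 2048)) (b := (nat_lit 219136)) h c217088 rfl
  have h := zero_lt_add (a := (nat_lit 219136)) (n := (nat_lit 2048)) (b := (nat_lit 221184)) h c219136 rfl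
  have h := zero_lt_add (a := (nat_lit 221184)) (n := (nat_lit 2048)) (b := (nat_lit 223232)) h c221184 rfl
  have h := zero_lt_add (a := (nat_lit 223232)) (n := (nat_lit 2048)) (b := (nat_lit 225280)) h c223232 rfl
  have h := zero_lt_add (a := (nat_lit 225280)) (n := (nat_lit 2048)) (b := (nat_lit 227328)) h c225280 rfl
  have h := zero_lt_add (a := (nat_lit 227328)) (n := (nat_lit 2048)) (b := (nat_lit 229376)) h c227328 rfl
  have h := zero_lt_add (a := (nat_lit 229376)) (n := (nat_lit 2048)) (b := (nat_lit 231424)) h c229376 rfl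
  have h := zero_lt_add (a := (nat_lit 231424)) (n := (nat_lit 2048)) (b := (nat_lit 233472)) h c231424 rfl
  have h := zero_lt_add (a := (nat_lit 233472)) (n := (nat_lit 2048)) (b := (nat_lit 235520)) h c233472 rfl
  have h := zero_lt_add (a := (nat_lit 235520)) (n := (nat_lit 2048)) (b := (nat_lit 237568)) h c235520 rfl
  have h := zero_lt_add (a := (nat_lit 237568)) (n := (nat_lit 2048)) (b := (nat_lit 239616)) h c237568 rfl
  have h := zero_lt_add (a := (nat_lit 239616)) (n := (nat_lit 2048)) (b := (nat_lit 241664)) h c239616 rfl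
  have h := zero_lt_add (a := (nat_lit 241664)) (n := (nat_lit 2048)) (b := (nat_lit 243712)) h c241664 rfl
  have h := zero_lt_add (a := (nat_lit 243712)) (n := (nat_lit 2048)) (b := (nat_lit 245760)) h c243712 rfl
  have h := zero_lt_add (a := (nat_lit 245760)) (n := (nat_lit 2048)) (b := (nat_lit 247808)) h c245760 rfl
  have h := zero_lt_add (a := (nat_lit 247808)) (n := (nat_lit 2048)) (b := (nat_lit 249856)) h c247808 rfl
  have h := zero_lt_add (a := (nat_lit 249856)) (n := (nat_lit 2048)) (b := (nat_lit 251904)) h c249856 rfl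
  have h := zero_lt_add (a := (nat_lit 251904)) (n := (nat_lit 2048)) (b := (nat_lit 253952)) h c251904 rfl
  have h := zero_lt_add (a := (nat_lit 253952)) (n := (nat_lit 2048)) (b := (nat_lit 256000)) h c253952 rfl
  have h := zero_lt_add (a := (nat_lit 256000)) (n := (nat_lit 2048)) (b := (nat_lit 258048)) h c256000 rfl
  have h := zero_lt_add (a := (nat_lit 258048)) (n := (nat_lit 2048)) (b := (nat_lit 260096)) h c258048 rfl
  have h := zero_lt_add (a := (nat_lit 260096)) (n := (nat_lit 2048)) (b := (nat_lit 262144)) h c260096 rfl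
  exact h
theorem au : Au (q 0) := md.au sy (by decide) cs (pr := 262144) rfl h2 (by decide +kernel)
theorem h4 : ∀ i < 4600, f4 i = 0 := by
  have h := zero_lt_zero f4
  have h := zero_lt_add (a := (nat_lit 0)) (n := (nat_lit 798)) (b := (nat_lit 798)) h e0 rfl
  have h := zero_lt_add (a := (nat_lit 798)) (n := (nat_lit 798)) (b := (nat_lit 1596)) h e798 rfl
  have h := zero_lt_add (a := (nat_lit 1596)) (n := (nat_lit 798)) (b := (nat_lit 2394)) h e1596 rfl
  have h := zero_lt_add (a := (nat_lit 2394)) (n := (nat_lit 798)) (b := (nat_lit 3192)) h e2394 rfl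
  have h := zero_lt_add (a := (nat_lit 3192)) (n := (nat_lit 798)) (b := (nat_lit 3990)) h e3192 rfl
  have h := zero_lt_add (a := (nat_lit 3990)) (n := (nat_lit 610)) (b := (nat_lit 4600)) h e3990 rfl
  exact h
theorem o3 : CardLE (Fx q [nat_lit 24, nat_lit 23, nat_lit 22, nat_lit 0]) 1 := (Co2.md0).fin (Co2.top) md Ve (by decide +kernel)
theorem n2 : cnt Z2 (nat_lit 0) 56925 = 4 := by decide +kernel
theorem n1 : cnt Z1 (nat_lit 0) 56925 = 12960 := by decide +kernel
theorem n0 : cnt Z0 (nat_lit 0) 56925 = 14336 := by decide +kernel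



end Cfsg.Agent.Ct.Co2o
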