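import Cfsg.Agent.Lib.Cert.Co2o.D

set_option autoImplicit false
set_option maxRecDepth 100000

namespace Cfsg.Agent.Ct.Co2o

open Cfsg.Agent.PC

open Cfsg.Agent.Fi Cfsg.Agent.Ct
theorem a0 : Nat.beq (rng f0 (nat_lit 0) (nat_lit 157)) (nat_lit 0) = true := by decide +kernel
theorem a157 : Nat.beq (rng f0 (nat_lit 157) (nat_lit 157)) (nat_lit 0) = true := by decide +kernel
theorem a314 : Nat.beq (rng f0 (nat_lit 314) (nat_lit 157)) (nat_lit 0) = true := by decide +kernel
theorem a471 : Nat.beq (rng f0 (nat_lit 471) (nat_lit 157)) (nat_lit 0) = true := by decide +kernel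
theorem a628 : Nat.beq (rng f0 (nat_lit 628) (nat_lit 157)) (nat_lit 0) = true := by decide +kernel
theorem a785 : Nat.beq (rng f0 (nat_lit 785) (nat_lit 157)) (nat_lit 0) = true := by decide +kernel
theorem a942 : Nat.beq (rng f0 (nat_lit 942) (nat_lit 157)) (nat_lit 0) = true := by decide +kernel
theorem a1099 : Nat.beq (rng f0 (nat_lit 1099) (nat_lit 157)) (nat_lit 0) = true := by decide +kernel

end Cfsg.Agent.Ct.Co2o
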