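import Cfsg.Agent.Lib.Cert.Co2o.D

set_option autoImplicit false
set_option maxRecDepth 100000

namespace Cfsg.Agent.Ct.Co2o

open Cfsg.Agent.PC

open Cfsg.Agent.Fi Cfsg.Agent.Ct
theorem c36864 : Nat.beq (rng f2 (nat_lit 36864) (nat_lit 2048)) (nat_lit 0) = true := by decide +kernel
theorem c38912 : Nat.beq (rng f2 (nat_lit 38912) (nat_lit 2048)) (nat_lit 0) = true := by decide +kernel
theorem c40960 : Nat.beq (rng f2 (nat_lit 40960) (nat_lit 2048)) (nat_lit 0) = true := by decide +kernel
theorem c43008 : Nat.beq (rng f2 (nat_lit 43008) (nat_lit 2048)) (nat_lit 0) = true := by decide +kernel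
theorem c45056 : Nat.beq (rng f2 (nat_lit 45056) (nat_lit 2048)) (nat_lit 0) = true := by decide +kernel
theorem c47104 : Nat.beq (rng f2 (nat_lit 47104) (nat_lit 2048)) (nat_lit 0) = true := by decide +kernel
theorem c49152 : Nat.beq (rng f2 (nat_lit 49152) (nat_lit 2048)) (nat_lit 0) = true := by decide +kernel
theorem c51200 : Nat.beq (rng f2 (nat_lit 51200) (nat_lit 2048)) (nat_lit 0) = true := by decide +kernel

end Cfsg.Agent.Ct.Co2o
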